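import Groth.Agent.HenselChart.Family
import Groth.Agent.AlgSpLib.QCompact
import Groth.Agent.AlgSpLib.Quot

/-!
# Colimits of schemes which stay colimits among algebraic spaces
-/

set_option autoImplicit false
universe w v u

open CategoryTheory CategoryTheory.Limits AlgebraicGeometry

set_option backward.isDefEq.respectTransparency false

namespace Groth.Agent.ColimScheme

open _root_.AlgSp Groth.Agent.AlgSpLib

variable {S : Scheme.{u}} {I : Type v} [Category.{w} I]

/-- maps out of a colimit of schemes, in schemes over the base -/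
theorem existsUnique_desc {D : I ⥤ Over S} {c : Cocone D} (h : IsColimit ((Over.forget S).mapCocone c))
    {T : Over S} (t : ∀ i, D.obj i ⟶ T) (ht : ∀ ⦃i j : I⦄ (f : i ⟶ j), D.map f ≫ t j = t i) :
    ∃! m : c.pt ⟶ T, ∀ i, c.ι.app i ≫ m = t i := by
  let s : Cocone (D ⋙ Over.forget S) :=
    { pt := T.left
      ι := { app := fun i => (t i).left
             naturality := fun i j f => by
              change (D.map f).left ≫ (t j).left = (t i).left ≫ 𝟙 _
              rw [Category.comp_id, ← Over.comp_left, ht] } }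
  have hfac : ∀ i, (c.ι.app i).left ≫ h.desc s = (t i).left := fun i => h.fac s i
  refine ⟨Over.homMk (h.desc s) ?_, fun i => Over.OverMorphism.ext (hfac i), fun m hm => ?_⟩
  · refine h.hom_ext fun i => ?_
    change (c.ι.app i).left ≫ h.desc s ≫ T.hom = (c.ι.app i).left ≫ c.pt.hom
    rw [← Category.assoc, hfac i]
    exact (Over.w _).trans (Over.w _).symm
  · refine Over.OverMorphism.ext (h.hom_ext fun i => ?_)
    exact ((Over.comp_left _ _ _ _ _).symm.trans (congrArg (fun k => k.left) (hm i))).trans (hfac i).symm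

variable {D : I ⥤ Over S} {c : Cocone D}

/-- the image of a scheme colimit with etale descent is a colimit among algebraic spaces -/
theorem existsUnique_map
    (h₂ : ∀ x : ↥c.pt.left, ∃ (i : I) (y : ↥(D.obj i).left), (c.ι.app i).left y = x)
    (h₃ : ∀ (D' : I ⥤ Over S) (α : D' ⟶ D) (c' : Cocone D') (a : c'.pt ⟶ c.pt), Etale a.left →
      (∀ i, IsPullback (c'.ι.app i) (α.app i) a (c.ι.app i)) → Nonempty (IsColimit ((Over.forget S).mapCocone c')))
    (h₄ : ∀ (D' : I ⥤ Over S) (α : D' ⟶ D), NatTrans.Equifibered α → (∀ i, Etale (α.app i).left) →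
      (∀ i, IsSeparated (α.app i).left) →
      ∃ (c' : Cocone D') (a : c'.pt ⟶ c.pt), Etale a.left ∧ ∀ i, IsPullback (c'.ι.app i) (α.app i) a (c.ι.app i))
    {Y : Sp S} (hY : IsAlgSpace Y) (g : ∀ i, (yon S).obj (D.obj i) ⟶ Y)
    (hg : ∀ ⦃i j : I⦄ (f : i ⟶ j), (yon S).map (D.map f) ≫ g j = g i) :
    ∃! m : (yon S).obj c.pt ⟶ Y, ∀ i, (yon S).map (c.ι.app i) ≫ m = g i := by
  obtain ⟨ι₀, V, hV, q₀, q, hqe, hqs, -⟩ := exists_affine_sigma_chart hY
  let W : Over S := Over.mk q₀
  have : IsSeparated W.hom := by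
    show IsSeparated q₀
    rw [show q₀ = Sigma.desc (fun k => Sigma.ι V k ≫ q₀) from Sigma.hom_ext _ _ fun k => by rw [Sigma.ι_desc]]
    exact HenselChart.isSeparated_sigma_desc _ fun k => by
      have := hV k
      infer_instance
  choose U α w sq using fun i => exists_pullback hY.diag (g i) q
  have hαe : ∀ i, Etale (α i).left := fun i => (repWith_yon_iff (α i)).1 (repWith_baseChange (sq i).flip hqe)
  have hαs : ∀ i, Surjective (α i).left := fun i => (repWith_yon_iff (α i)).1 (repWith_baseChange (sq i).flip hqs)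
  have hext : ∀ {i : I} {T : Over S} (x y : T ⟶ U i), x ≫ α i = y ≫ α i → x ≫ w i = y ≫ w i → x = y :=
    fun {i T} x y e e' => (yon S).map_injective ((sq i).hom_ext
      (by rw [← Functor.map_comp, ← Functor.map_comp, e]) (by rw [← Functor.map_comp, ← Functor.map_comp, e']))
  have hsep : ∀ i, IsSeparated (α i).left := fun i => by
    let m : (U i).left ⟶ pullback (D.obj i).hom W.hom :=
      pullback.lift (α i).left (w i).left ((Over.w (α i)).trans (Over.w (w i)).symm)
    have : Mono m := ⟨fun {T} x y e => by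
      have e₁ : x ≫ (α i).left = y ≫ (α i).left := by
        simpa [m, Category.assoc] using congrArg (· ≫ pullback.fst _ _) e
      have e₂ : x ≫ (w i).left = y ≫ (w i).left := by
        simpa [m, Category.assoc] using congrArg (· ≫ pullback.snd _ _) e
      have hy : y ≫ (U i).hom = x ≫ (U i).hom := by
        rw [← Over.w (α i), ← Category.assoc, ← e₁, Category.assoc]
      have := hext (Over.homMk x rfl : Over.mk (x ≫ (U i).hom) ⟶ U i) (Over.homMk y hy)
        (Over.OverMorphism.ext e₁) (Over.OverMorphism.ext e₂)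
      exact congrArg (fun k => k.left) this⟩
    rw [show (α i).left = m ≫ pullback.fst _ _ from (pullback.lift_fst _ _ _).symm]
    infer_instance
  -- the system of pullbacks
  have hex : ∀ ⦃i j : I⦄ (f : i ⟶ j), ∃ u : U i ⟶ U j, u ≫ α j = α i ≫ D.map f ∧ u ≫ w j = w i := fun i j f => by
    obtain ⟨u, hu⟩ := exists_map_eq ((sq j).lift ((yon S).map (α i ≫ D.map f)) ((yon S).map (w i)) (by
      rw [Functor.map_comp, Category.assoc, hg, (sq i).w]))
    exact ⟨u, (yon S).map_injective (by rw [Functor.map_comp, hu, (sq j).lift_fst]),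
      (yon S).map_injective (by rw [Functor.map_comp, hu, (sq j).lift_snd])⟩
  choose u hu₁ hu₂ using hex
  let D' : I ⥤ Over S :=
    { obj := U
      map := fun f => u f
      map_id := fun i => hext _ _ (by rw [hu₁, CategoryTheory.Functor.map_id, Category.comp_id, Category.id_comp])
        (by rw [hu₂, Category.id_comp])
      map_comp := fun f f' => hext _ _
        (by rw [hu₁, Functor.map_comp, Category.assoc, hu₁, reassoc_of% (hu₁ f)])
        (by rw [hu₂, Category.assoc, hu₂, hu₂]) }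
  let τ : D' ⟶ D := { app := α, naturality := fun i j f => hu₁ f }
  have hτ : NatTrans.Equifibered τ := fun {i j} f => by
    refine IsPullback.of_map (yon S) (τ.naturality f) ?_
    refine IsPullback.of_right ?_ ?_ (sq j).flip
    · rw [hg, ← Functor.map_comp]
      exact (show u f ≫ w j = w i from hu₂ f) ▸ (sq i).flip
    · rw [← Functor.map_comp, ← Functor.map_comp]
      exact congrArg _ (hu₁ f)
  obtain ⟨c', a, ha, hc'⟩ := h₄ D' τ hτ hαe hsep
  obtain ⟨hcol⟩ := h₃ D' τ c' a ha hc'
  obtain ⟨t, ht, -⟩ := existsUnique_desc hcol (T := W) w hu₂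
  have : Etale a.left := ha
  have : Surjective a.left := ⟨fun x => by
    obtain ⟨i, y, rfl⟩ := h₂ x
    obtain ⟨z, rfl⟩ := (hαs i).surj y
    refine ⟨(c'.ι.app i).left z, ?_⟩
    have e := congrArg (fun k : U i ⟶ c.pt => k.left z) (hc' i).w
    exact e⟩
  -- the kernel pair of the cover
  obtain ⟨R, r₁, r₂, sqR⟩ := exists_pullback (IsAlgSpace.yon_obj c.pt).diag ((yon S).map a) ((yon S).map a)
  have hR : r₁ ≫ a = r₂ ≫ a := (yon S).map_injective (by rw [Functor.map_comp, Functor.map_comp, sqR.w])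
  have : Etale r₁.left := (repWith_yon_iff r₁).1 (repWith_baseChange sqR.flip ((repWith_yon_iff a).2 ha))
  have : Etale (r₁ ≫ a).left := MorphismProperty.comp_mem @Etale r₁.left a.left ‹_› ha
  choose P p₁ p₂ sqP using fun i => exists_pullback (IsAlgSpace.yon_obj c.pt).diag ((yon S).map (c.ι.app i))
    ((yon S).map (r₁ ≫ a))
  have hPext : ∀ {i : I} {T : Over S} (x y : T ⟶ P i), x ≫ p₁ i = y ≫ p₁ i → x ≫ p₂ i = y ≫ p₂ i → x = y :=
    fun {i T} x y e e' => (yon S).map_injective ((sqP i).hom_ext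
      (by rw [← Functor.map_comp, ← Functor.map_comp, e]) (by rw [← Functor.map_comp, ← Functor.map_comp, e']))
  have hexP : ∀ ⦃i j : I⦄ (f : i ⟶ j), ∃ v : P i ⟶ P j, v ≫ p₁ j = p₁ i ≫ D.map f ∧ v ≫ p₂ j = p₂ i :=
    fun i j f => by
    obtain ⟨v, hv⟩ := exists_map_eq ((sqP j).lift ((yon S).map (p₁ i ≫ D.map f)) ((yon S).map (p₂ i)) (by
      rw [Functor.map_comp, Category.assoc, ← Functor.map_comp (yon S) (D.map f), c.w, (sqP i).w]))
    exact ⟨v, (yon S).map_injective (by rw [Functor.map_comp, hv, (sqP j).lift_fst]),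
      (yon S).map_injective (by rw [Functor.map_comp, hv, (sqP j).lift_snd])⟩
  choose v hv₁ hv₂ using hexP
  let D'' : I ⥤ Over S :=
    { obj := P
      map := fun f => v f
      map_id := fun i => hPext _ _ (by rw [hv₁, CategoryTheory.Functor.map_id, Category.comp_id, Category.id_comp])
        (by rw [hv₂, Category.id_comp])
      map_comp := fun f f' => hPext _ _
        (by rw [hv₁, Functor.map_comp, Category.assoc, hv₁, reassoc_of% (hv₁ f)])
        (by rw [hv₂, Category.assoc, hv₂, hv₂]) }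
  let c'' : Cocone D'' :=
    { pt := R
      ι := { app := p₂, naturality := fun i j f => (hv₂ f).trans (Category.comp_id _).symm } }
  obtain ⟨hcol''⟩ := h₃ D'' { app := p₁, naturality := fun i j f => hv₁ f } c'' (r₁ ≫ a) ‹_›
    (fun i => IsPullback.of_map (yon S) (Over.OverMorphism.ext (congrArg (fun k => k.left) ((yon S).map_injective (X := P i) (Y := c.pt) (a₁ := p₂ i ≫ r₁ ≫ a) (a₂ := p₁ i ≫ c.ι.app i) (by rw [Functor.map_comp, Functor.map_comp (yon S) (p₁ i)]; exact (sqP i).w.symm)))) (sqP i).flip)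
  obtain ⟨RY, u₁, u₂, sqY⟩ := exists_pullback hY.diag q q
  have hkey : ∀ i, (yon S).map (p₂ i ≫ r₁ ≫ t) ≫ q = (yon S).map (p₂ i ≫ r₂ ≫ t) ≫ q := fun i => by
    have hsq : ∀ r : R ⟶ c'.pt, r ≫ a = r₁ ≫ a →
        (yon S).map (p₂ i ≫ r ≫ t) ≫ q = (yon S).map (p₁ i) ≫ g i := fun r hr => by
      have e : (p₂ i ≫ r) ≫ a = p₁ i ≫ c.ι.app i := (yon S).map_injective (by
        rw [Category.assoc, hr, Functor.map_comp, Functor.map_comp (yon S) (p₁ i)]
        exact (sqP i).w.symm)
      rw [show p₂ i ≫ r ≫ t = (hc' i).lift (p₂ i ≫ r) (p₁ i) e ≫ w i by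
          rw [← ht i, IsPullback.lift_fst_assoc, Category.assoc]]
      rw [Functor.map_comp, Category.assoc, ← (sq i).w, ← Category.assoc, ← Functor.map_comp]
      exact congrArg (fun k => (yon S).map k ≫ g i) ((hc' i).lift_snd _ _ e)
    rw [hsq r₁ rfl, hsq r₂ hR.symm]
  have hn' : ∀ i, ∃ n : P i ⟶ RY, n ≫ u₁ = p₂ i ≫ r₁ ≫ t ∧ n ≫ u₂ = p₂ i ≫ r₂ ≫ t := fun i => by
    obtain ⟨n, hn⟩ := exists_map_eq (sqY.lift _ _ (hkey i))
    exact ⟨n, (yon S).map_injective (by rw [Functor.map_comp, hn, sqY.lift_fst]),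
      (yon S).map_injective (by rw [Functor.map_comp, hn, sqY.lift_snd])⟩
  choose n hn₁ hn₂ using hn'
  obtain ⟨nR, hnR, -⟩ := existsUnique_desc hcol'' n fun i j f => by
    refine (yon S).map_injective (sqY.hom_ext ?_ ?_)
    · simp only [← Functor.map_comp, Category.assoc, hn₁]
      exact congrArg _ (by rw [← Category.assoc]; exact congrArg (· ≫ r₁ ≫ t) (hv₂ f))
    · simp only [← Functor.map_comp, Category.assoc, hn₂]
      exact congrArg _ (by rw [← Category.assoc]; exact congrArg (· ≫ r₂ ≫ t) (hv₂ f))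
  have hr₁ : nR ≫ u₁ = r₁ ≫ t := Over.OverMorphism.ext (hcol''.hom_ext fun i => by
    change (p₂ i).left ≫ (nR ≫ u₁).left = (p₂ i).left ≫ (r₁ ≫ t).left
    rw [← Over.comp_left, ← Over.comp_left, ← Category.assoc, hnR i, hn₁])
  have hr₂ : nR ≫ u₂ = r₂ ≫ t := Over.OverMorphism.ext (hcol''.hom_ext fun i => by
    change (p₂ i).left ≫ (nR ≫ u₂).left = (p₂ i).left ≫ (r₂ ≫ t).left
    rw [← Over.comp_left, ← Over.comp_left, ← Category.assoc, hnR i, hn₂])
  have hw : (yon S).map r₁ ≫ (yon S).map t ≫ q = (yon S).map r₂ ≫ (yon S).map t ≫ q := by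
    rw [← Functor.map_comp_assoc, ← hr₁, ← Functor.map_comp_assoc, ← hr₂, Functor.map_comp, Functor.map_comp,
      Category.assoc, Category.assoc, sqY.w]
  have := isLocallySurjective_yon_map a
  have : Epi ((yon S).map a) := (Sheaf.isLocallySurjective_iff_epi _).1 ‹_›
  obtain ⟨hca⟩ := isColimit_of_isPullback sqR
  let m : (yon S).obj c.pt ⟶ Y := hca.desc (Cofork.ofπ _ hw)
  have hm : (yon S).map a ≫ m = (yon S).map t ≫ q := hca.fac _ WalkingParallelPair.one
  refine ⟨m, fun i => ?_, fun m' hm' => ?_⟩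
  · have := isLocallySurjective_of_atlas ((repWith_yon_iff (α i)).2 (hαe i)) ((repWith_yon_iff (α i)).2 (hαs i))
    have : Epi ((yon S).map (α i)) := (Sheaf.isLocallySurjective_iff_epi _).1 ‹_›
    have e : α i ≫ c.ι.app i = c'.ι.app i ≫ a := (hc' i).w.symm
    rw [← cancel_epi ((yon S).map (α i)), ← Functor.map_comp_assoc, e, Functor.map_comp, Category.assoc, hm,
      ← Functor.map_comp_assoc, ht, (sq i).w]
  · obtain ⟨U', a', t', sq'⟩ := exists_pullback hY.diag m' q
    have hl : ∀ i, ∃ l : U i ⟶ U', l ≫ a' = α i ≫ c.ι.app i ∧ l ≫ t' = w i := fun i => by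
      obtain ⟨l, hl⟩ := exists_map_eq (sq'.lift ((yon S).map (α i ≫ c.ι.app i)) ((yon S).map (w i)) (by
        rw [Functor.map_comp, Category.assoc, hm', (sq i).w]))
      exact ⟨l, (yon S).map_injective (by rw [Functor.map_comp, hl, sq'.lift_fst]),
        (yon S).map_injective (by rw [Functor.map_comp, hl, sq'.lift_snd])⟩
    choose l hl₁ hl₂ using hl
    obtain ⟨φ, hφ, -⟩ := existsUnique_desc hcol l fun i j f => by
      refine (yon S).map_injective (sq'.hom_ext ?_ ?_)
      · simp only [← Functor.map_comp, Category.assoc, hl₁]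
        refine congrArg _ ?_
        change u f ≫ α j ≫ _ = _
        rw [reassoc_of% (hu₁ f), c.w]
      · simp only [← Functor.map_comp, Category.assoc, hl₂]
        exact congrArg _ (hu₂ f)
    have hφa : φ ≫ a' = a := Over.OverMorphism.ext (hcol.hom_ext fun i => by
      change (c'.ι.app i).left ≫ (φ ≫ a').left = (c'.ι.app i).left ≫ a.left
      rw [← Over.comp_left, ← Over.comp_left, reassoc_of% (hφ i), hl₁, (hc' i).w])
    have hφt : φ ≫ t' = t := Over.OverMorphism.ext (hcol.hom_ext fun i => by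
      change (c'.ι.app i).left ≫ (φ ≫ t').left = (c'.ι.app i).left ≫ t.left
      rw [← Over.comp_left, ← Over.comp_left, reassoc_of% (hφ i), hl₂, ht])
    rw [← cancel_epi ((yon S).map a), hm, ← hφa, ← hφt, Functor.map_comp, Functor.map_comp, Category.assoc,
      Category.assoc, sq'.w]


end Groth.Agent.ColimScheme
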